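import Mathlib.RingTheory.HopfAlgebra.Basic
import Mathlib.RingTheory.Bialgebra.Hom
import Mathlib.RingTheory.TensorProduct.Maps
import Mathlib.LinearAlgebra.Matrix.NonsingularInverse
import Mathlib.LinearAlgebra.Matrix.ToLin

/-!
# Matrix groups given by a universal matrix

`MGrp k n` = a group of invertible `n × n` matrices, functorial in commutative `k`-algebras; `Univ G A h` = the commutative
`k`-algebra `A` with the matrix `h` represents it.  Then `A` is a Hopf algebra with `Δ h = h ⊗ h`, `ε h = 1`, `S h = h⁻¹`
(`Univ.bialgebra`, `Univ.hopf`), and bialgebra maps out of `A` are matrices (`Univ.hom`).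
-/

set_option autoImplicit false
set_option linter.unusedSectionVars false

universe u v

open TensorProduct

noncomputable section

namespace Groth.Agent.ResProp.EF.K374

/-- A group of invertible matrices, as a functor on commutative `k`-algebras. -/
structure MGrp (k : Type u) [CommRing k] (n : Type v) [Fintype n] [DecidableEq n] : Type (max (u + 1) v) where
  P : ∀ (R : Type u) [CommRing R] [Algebra k R], Matrix n n R → Prop
  map : ∀ {R S : Type u} [CommRing R] [CommRing S] [Algebra k R] [Algebra k S] (f : R →ₐ[k] S)
    {g : Matrix n n R}, P R g → P S (g.map f)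
  one : ∀ (R : Type u) [CommRing R] [Algebra k R], P R 1
  mul : ∀ {R : Type u} [CommRing R] [Algebra k R] {g h : Matrix n n R}, P R g → P R h → P R (g * h)
  inv : ∀ {R : Type u} [CommRing R] [Algebra k R] {g : Matrix n n R}, P R g → P R g⁻¹
  unit : ∀ {R : Type u} [CommRing R] [Algebra k R] {g : Matrix n n R}, P R g → IsUnit g.det

variable {k : Type u} [CommRing k] {n : Type v} [Fintype n] [DecidableEq n]

/-- `(A, h)` represents `G`. -/
structure Univ (G : MGrp k n) (A : Type u) [CommRing A] [Algebra k A] (h : Matrix n n A) : Prop where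
  mem : G.P A h
  lift : ∀ (R : Type u) [CommRing R] [Algebra k R] (g : Matrix n n R), G.P R g → ∃! f : A →ₐ[k] R, h.map f = g

namespace Univ

variable {G : MGrp k n} {A : Type u} [CommRing A] [Algebra k A] {h : Matrix n n A} (U : Univ G A h)
  {R : Type u} [CommRing R] [Algebra k R]

/-- the point with matrix `g` -/
def pt (g : Matrix n n R) (hg : G.P R g) : A →ₐ[k] R := (U.lift R g hg).choose

@[simp] lemma map_pt (g : Matrix n n R) (hg : G.P R g) : h.map (U.pt g hg) = g :=
  (U.lift R g hg).choose_spec.1

@[simp] lemma pt_apply (g : Matrix n n R) (hg : G.P R g) (i j : n) : U.pt g hg (h i j) = g i j :=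
  congrFun (congrFun (U.map_pt g hg) i) j

include U in
lemma ext {f f' : A →ₐ[k] R} (e : h.map f = h.map f') : f = f' := by
  obtain ⟨x, -, hx⟩ := U.lift R (h.map f) (G.map f U.mem)
  rw [hx f rfl, hx f' e.symm]

lemma pt_eq {g : Matrix n n R} {hg : G.P R g} {f : A →ₐ[k] R} (e : h.map f = g) : U.pt g hg = f :=
  U.ext (by rw [map_pt, e])

/-- the comultiplication -/
def com : A →ₐ[k] A ⊗[k] A :=
  U.pt (h.map (Algebra.TensorProduct.includeLeft : A →ₐ[k] A ⊗[k] A) *
    h.map (Algebra.TensorProduct.includeRight : A →ₐ[k] A ⊗[k] A)) (G.mul (G.map _ U.mem) (G.map _ U.mem))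

lemma map_com : h.map U.com = h.map (Algebra.TensorProduct.includeLeft : A →ₐ[k] A ⊗[k] A) *
    h.map (Algebra.TensorProduct.includeRight : A →ₐ[k] A ⊗[k] A) := U.map_pt _ _

lemma com_apply (i j : n) : U.com (h i j) = ∑ l, h i l ⊗ₜ[k] h l j := by
  have := congrFun (congrFun U.map_com i) j
  simpa [Matrix.mul_apply] using this

/-- the counit -/
def cou : A →ₐ[k] k := U.pt 1 (G.one k)

lemma map_cou : h.map U.cou = 1 := U.map_pt _ _

/-- the antipode -/
def anti : A →ₐ[k] A := U.pt h⁻¹ (G.inv U.mem)

lemma map_anti : h.map U.anti = h⁻¹ := U.map_pt _ _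

lemma map_comp {B C : Type u} [CommRing B] [CommRing C] [Algebra k B] [Algebra k C] (f : A →ₐ[k] B) (g : B →ₐ[k] C) :
    h.map (g.comp f) = (h.map f).map g := rfl

lemma map_mul' {B C : Type u} [CommRing B] [CommRing C] [Algebra k B] [Algebra k C] (f : B →ₐ[k] C)
    (x y : Matrix n n B) : (x * y).map f = x.map f * y.map f := Matrix.map_mul

/-- the bialgebra structure -/
@[reducible] def bialgebra : Bialgebra k A :=
  Bialgebra.ofAlgHom U.com U.cou
    (by
      apply U.ext
      rw [map_comp, map_comp, map_comp, map_com, map_mul', map_mul', map_mul']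
      have e1 : ((h.map (Algebra.TensorProduct.includeLeft : A →ₐ[k] A ⊗[k] A)).map
            (Algebra.TensorProduct.map U.com (.id k A))).map
              (Algebra.TensorProduct.assoc k k k A A A).toAlgHom =
          (h.map U.com).map ((Algebra.TensorProduct.assoc k k k A A A).toAlgHom.comp
            (Algebra.TensorProduct.includeLeft : (A ⊗[k] A) →ₐ[k] (A ⊗[k] A) ⊗[k] A)) := by
        ext i j; simp
      rw [e1, map_com, map_mul', mul_assoc]
      congr 1
      · ext i j; simp [Algebra.TensorProduct.one_def]
      · have e2 : (h.map (Algebra.TensorProduct.includeRight : A →ₐ[k] A ⊗[k] A)).map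
            (Algebra.TensorProduct.map (.id k A) U.com) =
          (h.map U.com).map (Algebra.TensorProduct.includeRight : (A ⊗[k] A) →ₐ[k] A ⊗[k] (A ⊗[k] A)) := by
          ext i j; simp
        rw [e2, map_com, map_mul']
        congr 1
        ext i j
        simp [Algebra.TensorProduct.one_def])
    (by
      apply U.ext
      rw [map_comp, map_com, map_mul']
      have e1 : (h.map (Algebra.TensorProduct.includeLeft : A →ₐ[k] A ⊗[k] A)).map
            (Algebra.TensorProduct.map U.cou (.id k A)) =
          (h.map U.cou).map (Algebra.TensorProduct.includeLeft : k →ₐ[k] k ⊗[k] A) := by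
        ext i j; simp
      rw [e1, map_cou]
      ext i j
      simp [Matrix.mul_apply, Matrix.one_apply])
    (by
      apply U.ext
      rw [map_comp, map_com, map_mul']
      have e1 : (h.map (Algebra.TensorProduct.includeRight : A →ₐ[k] A ⊗[k] A)).map
            (Algebra.TensorProduct.map (.id k A) U.cou) =
          (h.map U.cou).map (Algebra.TensorProduct.includeRight : k →ₐ[k] A ⊗[k] k) := by
        ext i j; simp
      rw [e1, map_cou]
      ext i j
      simp [Matrix.mul_apply, Matrix.one_apply])

/-- the Hopf algebra structure -/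
@[reducible] def hopf : HopfAlgebra k A :=
  letI := U.bialgebra
  HopfAlgebra.ofAlgHom U.anti
    (by
      apply U.ext
      change h.map ((Algebra.TensorProduct.lift U.anti (.id k A) fun _ ↦ Commute.all _).comp U.com) =
        h.map ((Algebra.ofId k A).comp U.cou)
      rw [map_comp, map_comp, map_com, map_mul', map_cou]
      have e1 : (h.map (Algebra.TensorProduct.includeLeft : A →ₐ[k] A ⊗[k] A)).map
          (Algebra.TensorProduct.lift U.anti (.id k A) fun _ ↦ Commute.all _) = h.map U.anti := by
        ext i j
        refine (Algebra.TensorProduct.lift_tmul _ _ (fun _ _ ↦ Commute.all _ _) _ _).trans ?_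
        simp
      have e2 : (h.map (Algebra.TensorProduct.includeRight : A →ₐ[k] A ⊗[k] A)).map
          (Algebra.TensorProduct.lift U.anti (.id k A) fun _ ↦ Commute.all _) = h := by
        ext i j
        refine (Algebra.TensorProduct.lift_tmul _ _ (fun _ _ ↦ Commute.all _ _) _ _).trans ?_
        simp
      rw [e1, e2, map_anti, Matrix.nonsing_inv_mul _ (G.unit U.mem)]
      ext i j
      simp [Matrix.one_apply])
    (by
      apply U.ext
      change h.map ((Algebra.TensorProduct.lift (.id k A) U.anti fun _ _ ↦ Commute.all _ _).comp U.com) =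
        h.map ((Algebra.ofId k A).comp U.cou)
      rw [map_comp, map_comp, map_com, map_mul', map_cou]
      have e1 : (h.map (Algebra.TensorProduct.includeLeft : A →ₐ[k] A ⊗[k] A)).map
          (Algebra.TensorProduct.lift (.id k A) U.anti fun _ _ ↦ Commute.all _ _) = h := by
        ext i j
        refine (Algebra.TensorProduct.lift_tmul _ _ (fun _ _ ↦ Commute.all _ _) _ _).trans ?_
        simp
      have e2 : (h.map (Algebra.TensorProduct.includeRight : A →ₐ[k] A ⊗[k] A)).map
          (Algebra.TensorProduct.lift (.id k A) U.anti fun _ _ ↦ Commute.all _ _) = h.map U.anti := by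
        ext i j
        refine (Algebra.TensorProduct.lift_tmul _ _ (fun _ _ ↦ Commute.all _ _) _ _).trans ?_
        simp
      rw [e1, e2, map_anti, Matrix.mul_nonsing_inv _ (G.unit U.mem)]
      ext i j
      simp [Matrix.one_apply])

end Univ

end Groth.Agent.ResProp.EF.K374
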