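import Groth.Agent.ResProp.EF.Grp
import Groth.Agent.ResProp.EF.K374.MGrp

/-!
# `Stab(e_{i₀})` and `GL` as matrix groups; the objects `Gp k`; bialgebra maps

* `gl k n`, `stab k n i0 : MGrp k n`;
* `Univ.gp` : the group `Gp k` of a representing pair `(A, h)`, `A` free;
* `Univ.hom` : bialgebra map out of `A` given by a group-like matrix;
* `blk` : the block homomorphism `Stab → GL` (lower right block).
-/

set_option autoImplicit false
set_option linter.unusedSectionVars false

universe u v

open TensorProduct

noncomputable section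

namespace Groth.Agent.ResProp.EF.K374

open Groth.Agent.ResProp.EF

variable (k : Type u) [CommRing k] (n : Type v) [Fintype n] [DecidableEq n]

/-- the general linear group -/
def gl : MGrp k n where
  P _ _ _ g := IsUnit g.det
  map {R S} _ _ _ _ f g h := by
    have e : (g.map f).det = f g.det := by
      have := (RingHom.map_det (f : R →+* S) g).symm
      simpa using this
    rw [e]
    exact h.map f
  one R _ _ := by rw [Matrix.det_one]; exact isUnit_one
  mul h h' := by rw [Matrix.det_mul]; exact h.mul h'
  inv h := by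
    rw [Matrix.isUnit_nonsing_inv_det_iff]
    exact h
  unit h := h

/-- the stabilizer of the column vector `e_{i₀}` -/
def stab (i0 : n) : MGrp k n where
  P _ _ _ g := (∀ i, g i i0 = if i = i0 then 1 else 0) ∧ IsUnit g.det
  map {R S} _ _ _ _ f g h := by
    refine ⟨fun i => ?_, (gl k n).map f h.2⟩
    rw [Matrix.map_apply, h.1 i]
    split_ifs <;> simp
  one R _ _ := ⟨fun i => by rw [Matrix.one_apply], (gl k n).one R⟩
  mul {R} _ _ g g' h h' := by
    refine ⟨fun i => ?_, (gl k n).mul h.2 h'.2⟩
    rw [Matrix.mul_apply]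
    simp only [h'.1]
    simp [h.1 i]
  inv {R} _ _ g h := by
    refine ⟨fun i => ?_, (gl k n).inv h.2⟩
    have h1 : g.mulVec (Pi.single i0 1) = Pi.single i0 1 := by
      ext i
      rw [Matrix.mulVec_single_one, Matrix.col_apply, h.1 i, Pi.single_apply]
    have h2 : g⁻¹.mulVec (Pi.single i0 1) = Pi.single i0 1 := by
      conv_lhs => rw [← h1]
      rw [Matrix.mulVec_mulVec, Matrix.nonsing_inv_mul _ h.2, Matrix.one_mulVec]
    have h3 := congrFun h2 i
    rw [Matrix.mulVec_single_one, Matrix.col_apply, Pi.single_apply] at h3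
    exact h3
  unit h := h.2

variable {k n}

section gp

variable {G : MGrp k n} {A : Type u} [CommRing A] [Algebra k A] {h : Matrix n n A} (U : Univ G A h)

/-- the group `Gp k` represented by `(A, h)` -/
@[reducible] def Univ.gp [Module.Free k A] : Grp.Gp k where
  O := A
  cr := inferInstance
  ha := U.hopf
  fr := inferInstance

lemma Univ.comul_apply (i j : n) :
    (U.bialgebra.toCoalgebra.comul : A →ₗ[k] A ⊗[k] A) (h i j) = ∑ l, h i l ⊗ₜ[k] h l j :=
  U.com_apply i j

lemma Univ.counit_apply (i j : n) :
    (U.bialgebra.toCoalgebra.counit : A →ₗ[k] k) (h i j) = if i = j then 1 else 0 := by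
  have := congrFun (congrFun U.map_cou i) j
  rwa [Matrix.one_apply] at this

/-- bialgebra maps out of `A` -/
def Univ.hom {B : Type u} [CommRing B] [Bialgebra k B] (g : Matrix n n B) (hg : G.P B g)
    (hc : ∀ i j, Coalgebra.comul (R := k) (g i j) = ∑ l, g i l ⊗ₜ[k] g l j)
    (he : ∀ i j, Coalgebra.counit (R := k) (g i j) = if i = j then (1 : k) else 0) :
    letI := U.bialgebra
    A →ₐc[k] B :=
  letI := U.bialgebra
  BialgHom.ofAlgHom (U.pt g hg)
    (by
      apply U.ext
      ext i j
      change Coalgebra.counit (R := k) (U.pt g hg (h i j)) = U.cou (h i j)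
      rw [U.pt_apply, he, ← Matrix.one_apply, ← U.map_cou]
      rfl)
    (by
      apply U.ext
      ext i j
      change Algebra.TensorProduct.map (U.pt g hg) (U.pt g hg) (U.com (h i j)) =
        Coalgebra.comul (R := k) (U.pt g hg (h i j))
      rw [U.pt_apply, hc, U.com_apply, map_sum]
      refine Finset.sum_congr rfl fun l _ => ?_
      rw [Algebra.TensorProduct.map_tmul, U.pt_apply, U.pt_apply])

lemma Univ.hom_apply {B : Type u} [CommRing B] [Bialgebra k B] (g : Matrix n n B) (hg : G.P B g)
    (hc : ∀ i j, Coalgebra.comul (R := k) (g i j) = ∑ l, g i l ⊗ₜ[k] g l j)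
    (he : ∀ i j, Coalgebra.counit (R := k) (g i j) = if i = j then (1 : k) else 0) (i j : n) :
    letI := U.bialgebra
    U.hom g hg hc he (h i j) = g i j :=
  U.pt_apply g hg i j

end gp

section block

variable {n' : Type v} [Fintype n'] [DecidableEq n'] (E : Option n' ≃ n)

/-- the lower right block -/
abbrev blk {R : Type*} (g : Matrix n n R) : Matrix n' n' R := g.submatrix (fun i => E (some i)) fun i => E (some i)

lemma blk_mul {R : Type*} [CommRing R] {g g' : Matrix n n R}
    (hg : ∀ i, g i (E none) = if i = E none then 1 else 0) : blk E (g * g') = blk E g * blk E g' := by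
  ext i j
  change (g * g') (E (some i)) (E (some j)) = ∑ l, g (E (some i)) (E (some l)) * g' (E (some l)) (E (some j))
  rw [Matrix.mul_apply, ← E.sum_comp, Fintype.sum_option, hg,
    if_neg (fun e => by simpa using E.injective e), zero_mul, zero_add]

lemma blk_one {R : Type*} [CommRing R] : blk E (1 : Matrix n n R) = 1 := by
  ext i j
  simp [Matrix.one_apply]

lemma blk_unit {R : Type u} [CommRing R] [Algebra k R] {g : Matrix n n R} (hg : (stab k n (E none)).P R g) :
    IsUnit (blk E g).det := by
  have h1 : blk E g * blk E g⁻¹ = 1 := by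
    rw [← blk_mul E hg.1, Matrix.mul_nonsing_inv _ hg.2, blk_one]
  have h2 : (blk E g).det * (blk E g⁻¹).det = 1 := by rw [← Matrix.det_mul, h1, Matrix.det_one]
  exact IsUnit.of_mul_eq_one _ h2

end block

end Groth.Agent.ResProp.EF.K374
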