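import Groth.Agent.ResProp.EF.K374.StabProd
import Groth.Agent.ResProp.EF.K711.Stab

/-!
# Node D5: the stabilizer data `K711.StabData φφ t` of the real groups

`H = Stab(e_0) × G'`, `G = GL_{t+1} × GL_t × G'`, `φφ : O(G) → O(H)` of `(h, g') ↦ (h, lower right block of h, g')`.
-/

set_option autoImplicit false
set_option linter.unusedSectionVars false

universe u v

open TensorProduct

noncomputable section

namespace Groth.Agent.ResProp.EF.K374

open Groth.Agent.ResProp.EF Groth.Agent.ResProp.EF.K711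

section General

variable {k : Type u} [CommRing k] {G H : Grp.Gp k}

lemma rho_def (φ : G.O →ₐc[k] H.O) (a : G.O) : rho φ a =
    Algebra.TensorProduct.map (AlgHom.id k G.O) (φ : G.O →ₐ[k] H.O) (Coalgebra.comul (R := k) a) := rfl

variable {C : Type u} [CommRing C] [Bialgebra k C]

/-- `rho φ` on the image of a bialgebra map -/
lemma rho_hom (φ : G.O →ₐc[k] H.O) (f : C →ₐc[k] G.O) (a : C) : rho φ (f a) =
    Algebra.TensorProduct.map (f : C →ₐ[k] G.O) ((φ.comp f : C →ₐc[k] H.O) : C →ₐ[k] H.O)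
      (Coalgebra.comul (R := k) a) := by
  rw [rho_def, ← CoalgHomClass.map_comp_comul_apply f a]
  induction Coalgebra.comul (R := k) a using TensorProduct.induction_on with
  | zero => simp
  | add x y hx hy => rw [map_add, map_add, map_add, hx, hy]
  | tmul x y => rfl

end General

section Data

variable (k : Type u) [CommRing k] (t : ℕ) (G' : Grp.Gp k)

/-- `O(GL_{t+1}) → O(G)` -/
def i1 : CoordGrp.GLn (t + 1) k →ₐc[k] (GG k t G').O :=
  (inlB : (K653.GpGL (t + 1) k).O →ₐc[k] (K653.GpGL (t + 1) k).O ⊗[k] (K749.prodGp (K653.GpGL t k) G').O)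

/-- `O(GL_t) → O(G)` -/
def i2 : CoordGrp.GLn t k →ₐc[k] (GG k t G').O :=
  (inrB : (K749.prodGp (K653.GpGL t k) G').O →ₐc[k]
    (K653.GpGL (t + 1) k).O ⊗[k] (K749.prodGp (K653.GpGL t k) G').O).comp
    (inlB : (K653.GpGL t k).O →ₐc[k] (K653.GpGL t k).O ⊗[k] G'.O)

/-- `O(G') → O(G)` -/
def i3 : G'.O →ₐc[k] (GG k t G').O :=
  (inrB : (K749.prodGp (K653.GpGL t k) G').O →ₐc[k]
    (K653.GpGL (t + 1) k).O ⊗[k] (K749.prodGp (K653.GpGL t k) G').O).comp
    (inrB : G'.O →ₐc[k] (K653.GpGL t k).O ⊗[k] G'.O)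

/-- `O(Stab) → O(H)` -/
def j1 : (St k t).O →ₐc[k] (HH k t G').O := inlB

/-- `O(G') → O(H)` -/
def j2 : G'.O →ₐc[k] (HH k t G').O := inrB

lemma φφ_i1 (x : CoordGrp.GLn (t + 1) k) : φφ k t G' (i1 k t G' x) = j1 k t G' (φ1 k t x) := by
  change j1 k t G' (φ1 k t x) * liftB _ _ (1 : (K749.prodGp (K653.GpGL t k) G').O) = _
  rw [map_one, mul_one]

lemma φφ_i2 (x : CoordGrp.GLn t k) : φφ k t G' (i2 k t G' x) = j1 k t G' (φ2 k t x) := by
  change j1 k t G' (φ1 k t (1 : (K653.GpGL (t + 1) k).O)) * (j1 k t G' (φ2 k t x) * j2 k t G' 1) = _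
  rw [map_one, map_one, map_one, one_mul, mul_one]

lemma φφ_i3 (x : G'.O) : φφ k t G' (i3 k t G' x) = j2 k t G' x := by
  change j1 k t G' (φ1 k t (1 : (K653.GpGL (t + 1) k).O)) *
    (j1 k t G' (φ2 k t (1 : (K653.GpGL t k).O)) * j2 k t G' x) = _
  rw [map_one, map_one, map_one, map_one, one_mul, one_mul]

lemma φ1_X (i j : Fin (t + 1)) : φ1 k t (CoordGrp.GLn.X i j : CoordGrp.GLn (t + 1) k) = mS k t i j :=
  (univ_gl (k := k) (t + 1)).homOf_apply CoordGrp.GLn.comul_X CoordGrp.GLn.counit_X (mS k t) (mS_det k t)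
    (comul_mS k t) (counit_mS k t) i j

lemma φ2_X (i j : Fin t) : φ2 k t (CoordGrp.GLn.X i j : CoordGrp.GLn t k) = mS k t i.succ j.succ :=
  (univ_gl (k := k) t).homOf_apply CoordGrp.GLn.comul_X CoordGrp.GLn.counit_X (bS k t) (bS_det k t)
    (comul_bS k t) (counit_bS k t) i j

/-- Node D5. -/
def stabData : StabData (φφ k t G') t where
  G0 := G'.O
  ga0 := (j2 k t G' : G'.O →ₐ[k] (HH k t G').O)
  hga0 a := (CoalgHomClass.map_comp_comul_apply (j2 k t G') a).symm
  h := Matrix.of fun i j => j1 k t G' (mS k t i j)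
  hcol i := by
    change j1 k t G' (mS k t i 0) = _
    rw [mS_col]
    split_ifs
    · rw [map_one]
    · rw [map_zero]
  hcomul i j := by
    change Coalgebra.comul (R := k) (j1 k t G' (mS k t i j)) = _
    rw [← CoalgHomClass.map_comp_comul_apply (j1 k t G') (mS k t i j), comul_mS, map_sum]
    rfl
  lift R _ _ M γ hM hd := by
    refine ⟨Algebra.TensorProduct.lift ((univS k t).pt M ⟨hM, hd⟩) γ fun _ _ => Commute.all _ _, fun i j => ?_, ?_⟩
    · change (univS k t).pt M ⟨hM, hd⟩ (mS k t i j) * γ 1 = M i j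
      rw [map_one, mul_one, Univ.pt_apply]
    · ext x
      change (univS k t).pt M ⟨hM, hd⟩ 1 * γ x = γ x
      rw [map_one, one_mul]
  ext R _ _ F F' h1 h2 := by
    refine Algebra.TensorProduct.ext ?_ ?_
    · refine (univS k t).ext ?_
      ext i j
      exact h1 i j
    · exact h2
  g1 := Matrix.of fun i j => i1 k t G' (CoordGrp.GLn.X i j)
  g2 := Matrix.of fun i j => i2 k t G' (CoordGrp.GLn.X i j)
  ga := (i3 k t G' : G'.O →ₐ[k] (GG k t G').O)
  hg1 i j := by
    change rho (φφ k t G') (i1 k t G' (CoordGrp.GLn.X i j)) = _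
    rw [rho_hom, CoordGrp.GLn.comul_X, map_sum]
    refine Finset.sum_congr rfl fun l _ => ?_
    change i1 k t G' (CoordGrp.GLn.X i l) ⊗ₜ[k] φφ k t G' (i1 k t G' (CoordGrp.GLn.X l j)) = _
    rw [φφ_i1, φ1_X]
    rfl
  hg2 i j := by
    change rho (φφ k t G') (i2 k t G' (CoordGrp.GLn.X i j)) = _
    rw [rho_hom, CoordGrp.GLn.comul_X, map_sum]
    refine Finset.sum_congr rfl fun l _ => ?_
    change i2 k t G' (CoordGrp.GLn.X i l) ⊗ₜ[k] φφ k t G' (i2 k t G' (CoordGrp.GLn.X l j)) = _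
    rw [φφ_i2, φ2_X]
    rfl
  hga a := by
    change rho (φφ k t G') (i3 k t G' a) = _
    rw [rho_hom]
    induction Coalgebra.comul (R := k) a using TensorProduct.induction_on with
    | zero => simp
    | add x y hx hy => rw [map_add, map_add, hx, hy]
    | tmul x y =>
      change i3 k t G' x ⊗ₜ[k] φφ k t G' (i3 k t G' y) = _
      rw [φφ_i3]
      rfl
  hd1 := by
    have h := (univ_gl (k := k) (t + 1)).mem
    have h2 := (gl k (Fin (t + 1))).map (i1 k t G' : CoordGrp.GLn (t + 1) k →ₐ[k] (GG k t G').O) h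
    exact h2
  hd2 := by
    have h := (univ_gl (k := k) t).mem
    have h2 := (gl k (Fin t)).map (i2 k t G' : CoordGrp.GLn t k →ₐ[k] (GG k t G').O) h
    exact h2

end Data

end Groth.Agent.ResProp.EF.K374
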