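import Groth.Agent.ResProp.EF.K374.Stab
import Groth.Agent.ResProp.EF.K58.Frame

/-!
# `O(Stab(e_{i₀})) = K58.Fr i₀ e_{i₀}`
-/

set_option autoImplicit false

universe u

open TensorProduct

noncomputable section

namespace Groth.Agent.ResProp.EF.K374

open Groth.Agent.ResProp.EF

variable {k : Type u} [CommRing k] {n : Type} [Fintype n] [DecidableEq n] (i₀ : n) (φ : n → k)

/-- `K58.Fr i₀ e_{i₀}` with its universal matrix represents `Stab(e_{i₀})`. -/
theorem univ_fr (hφ : ∀ i, φ i = if i = i₀ then 1 else 0) : Univ (stab k n i₀) (K58.Fr i₀ φ) (K58.mat i₀ φ) where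
  mem := ⟨fun i => by rw [K58.mat_col, hφ]; split_ifs <;> simp, K58.isUnit_det_mat i₀ φ⟩
  lift R _ _ g hg := by
    have hcol : ∀ i, g i i₀ = algebraMap k R (φ i) := fun i => by
      rw [hg.1, hφ]; split_ifs <;> simp
    refine ⟨{ K58.Fr.lift (algebraMap k R) g hg.2 hcol with
      commutes' := fun r => K58.Fr.lift_algebraMap (algebraMap k R) g hg.2 hcol r },
      K58.Fr.lift_mat (algebraMap k R) g hg.2 hcol, fun f hf => ?_⟩
    have h1 : (f : K58.Fr i₀ φ →+* R) = K58.Fr.lift (algebraMap k R) g hg.2 hcol := by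
      refine K58.Fr.hom_ext ?_ ?_
      · rw [K58.Fr.lift_comp]
        exact RingHom.ext fun b => f.commutes b
      · rw [K58.Fr.lift_mat]
        exact hf
    exact AlgHom.ext fun x => RingHom.congr_fun h1 x

/-- the universal property for `e_{i₀} = Pi.single i₀ 1` -/
theorem univ_stab : Univ (stab k n i₀) (K58.Fr i₀ (Pi.single i₀ 1 : n → k)) (K58.mat i₀ (Pi.single i₀ 1)) :=
  univ_fr i₀ _ fun _ => Pi.single_apply _ _ _

end Groth.Agent.ResProp.EF.K374
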