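import Groth.Agent.ResProp.EF.K374.StabFr
import Groth.Agent.ResProp.EF.K208.FreeGL
import Mathlib.LinearAlgebra.Matrix.Determinant.Basic

/-!
# `O(Stab(e_0))` is free; the group `St k t : Gp k` of invertible `(t+1) × (t+1)` matrices with first column `e_0`
-/

set_option autoImplicit false

universe u

open TensorProduct

noncomputable section

namespace Groth.Agent.ResProp.EF.K374

open Groth.Agent.ResProp.EF

variable (k : Type u) [CommRing k] (t : ℕ)

/-- `e_0` -/
abbrev e0v : Fin (t + 1) → k := Pi.single 0 1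

/-- positions of the variables of the lower right block -/
def bpos : Fin t × Fin t → Fin (t + 1) × {j : Fin (t + 1) // j ≠ 0} :=
  fun p => (p.1.succ, ⟨p.2.succ, Fin.succ_ne_zero _⟩)

lemma bpos_injective : Function.Injective (bpos t) := by
  rintro ⟨a, b⟩ ⟨c, d⟩ h
  simp only [bpos, Prod.mk.injEq, Fin.succ_inj, Subtype.mk.injEq] at h
  exact Prod.ext h.1 h.2

lemma det_mat0 : (K58.mat0 (0 : Fin (t + 1)) (e0v k t)).det =
    MvPolynomial.rename (bpos t) (Matrix.mvPolynomialX (Fin t) (Fin t) k).det := by
  rw [Matrix.det_succ_column_zero, Finset.sum_eq_single 0]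
  · have h0 : K58.mat0 (0 : Fin (t + 1)) (e0v k t) 0 0 = 1 := by
      rw [K58.mat0, dif_pos rfl]
      simp [e0v]
    rw [h0, Fin.val_zero, pow_zero, one_mul, one_mul]
    have h1 := AlgHom.map_det (MvPolynomial.rename (R := k) (bpos t)) (Matrix.mvPolynomialX (Fin t) (Fin t) k)
    rw [h1]
    congr 1
    ext1 i j
    rw [Matrix.submatrix_apply, AlgHom.mapMatrix_apply, Matrix.map_apply, Matrix.mvPolynomialX_apply,
      MvPolynomial.rename_X, K58.mat0, dif_neg (Fin.succ_ne_zero _), Fin.succAbove_zero]
    rfl
  · intro i _ hi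
    have h1 : e0v k t i = 0 := Pi.single_eq_of_ne hi _
    rw [K58.mat0, dif_pos rfl, h1, map_zero, mul_zero, zero_mul]
  · intro h
    exact absurd (Finset.mem_univ _) h

instance free_stab : Module.Free k (K58.Fr (0 : Fin (t + 1)) (e0v k t)) := by
  have h := K208.free_away_det (R := k) (bpos t) (bpos_injective t)
  rw [← det_mat0] at h
  exact h

/-- the stabilizer of the first standard column vector, as a group over `k` -/
def St : Grp.Gp k := (univ_stab (k := k) (0 : Fin (t + 1))).gp

end Groth.Agent.ResProp.EF.K374
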