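import Groth.Agent.ResProp.EF.K374.StabFree
import Groth.Agent.ResProp.EF.K653.GpGL
import Groth.Agent.ResProp.EF.K749.OutDef
import Mathlib.RingTheory.Bialgebra.TensorProduct

/-!
# The groups `H = Stab(e_0) × G'` and `G = GL_{t+1} × GL_t × G'` and the homomorphism `H → G`

`φ : O(G) → O(H)` corresponds to `(h, g') ↦ (h, lower right block of h, g')`.
-/

set_option autoImplicit false
set_option linter.unusedSectionVars false

universe u v

open TensorProduct

noncomputable section

namespace Groth.Agent.ResProp.EF.K374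

open Groth.Agent.ResProp.EF

section General

variable {k : Type u} [CommRing k]

/-- bialgebra map out of a represented bialgebra (any bialgebra structure with `Δ h = h ⊗ h`, `ε h = 1`) -/
def Univ.homOf {n : Type v} [Fintype n] [DecidableEq n] {G : MGrp k n} {A : Type u} [CommRing A] [Bialgebra k A]
    {h : Matrix n n A} (U : Univ G A h)
    (hA : ∀ i j, Coalgebra.comul (R := k) (h i j) = ∑ l, h i l ⊗ₜ[k] h l j)
    (hAe : ∀ i j, Coalgebra.counit (R := k) (h i j) = if i = j then (1 : k) else 0)
    {B : Type u} [CommRing B] [Bialgebra k B] (g : Matrix n n B) (hg : G.P B g)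
    (hc : ∀ i j, Coalgebra.comul (R := k) (g i j) = ∑ l, g i l ⊗ₜ[k] g l j)
    (he : ∀ i j, Coalgebra.counit (R := k) (g i j) = if i = j then (1 : k) else 0) : A →ₐc[k] B :=
  BialgHom.ofAlgHom (U.pt g hg)
    (by
      apply U.ext
      ext i j
      change Coalgebra.counit (R := k) (U.pt g hg (h i j)) = Coalgebra.counit (R := k) (h i j)
      rw [U.pt_apply, he, hAe])
    (by
      apply U.ext
      ext i j
      change Algebra.TensorProduct.map (U.pt g hg) (U.pt g hg) (Coalgebra.comul (R := k) (h i j)) =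
        Coalgebra.comul (R := k) (U.pt g hg (h i j))
      rw [U.pt_apply, hc, hA, map_sum]
      refine Finset.sum_congr rfl fun l _ => ?_
      rw [Algebra.TensorProduct.map_tmul, U.pt_apply, U.pt_apply])

@[simp] lemma Univ.homOf_apply {n : Type v} [Fintype n] [DecidableEq n] {G : MGrp k n} {A : Type u} [CommRing A]
    [Bialgebra k A] {h : Matrix n n A} (U : Univ G A h)
    (hA : ∀ i j, Coalgebra.comul (R := k) (h i j) = ∑ l, h i l ⊗ₜ[k] h l j)
    (hAe : ∀ i j, Coalgebra.counit (R := k) (h i j) = if i = j then (1 : k) else 0)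
    {B : Type u} [CommRing B] [Bialgebra k B] (g : Matrix n n B) (hg : G.P B g)
    (hc : ∀ i j, Coalgebra.comul (R := k) (g i j) = ∑ l, g i l ⊗ₜ[k] g l j)
    (he : ∀ i j, Coalgebra.counit (R := k) (g i j) = if i = j then (1 : k) else 0) (i j : n) :
    U.homOf hA hAe g hg hc he (h i j) = g i j :=
  U.pt_apply g hg i j

variable {C D E : Type u} [CommRing C] [CommRing D] [CommRing E] [Bialgebra k C] [Bialgebra k D] [Bialgebra k E]

/-- `x ↦ x ⊗ 1` as a bialgebra map -/
def inlB : C →ₐc[k] C ⊗[k] D :=
  BialgHom.ofAlgHom (Algebra.TensorProduct.includeLeft : C →ₐ[k] C ⊗[k] D)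
    (by
      ext x
      change Coalgebra.counit (R := k) (x ⊗ₜ[k] (1 : D)) = Coalgebra.counit (R := k) x
      rw [TensorProduct.counit_tmul, Bialgebra.counit_one, one_smul])
    (by
      ext x
      change Algebra.TensorProduct.map _ _ (Coalgebra.comul (R := k) x) = Coalgebra.comul (R := k) (x ⊗ₜ[k] (1 : D))
      rw [TensorProduct.comul_tmul, Bialgebra.comul_one]
      induction Coalgebra.comul (R := k) x using TensorProduct.induction_on with
      | zero => simp
      | add a b ha hb => rw [map_add, ha, hb, TensorProduct.add_tmul, map_add]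
      | tmul a b =>
        rw [Algebra.TensorProduct.one_def, TensorProduct.AlgebraTensorModule.tensorTensorTensorComm_tmul]
        rfl)

/-- `x ↦ 1 ⊗ x` as a bialgebra map -/
def inrB : D →ₐc[k] C ⊗[k] D :=
  BialgHom.ofAlgHom (Algebra.TensorProduct.includeRight : D →ₐ[k] C ⊗[k] D)
    (by
      ext x
      change Coalgebra.counit (R := k) ((1 : C) ⊗ₜ[k] x) = Coalgebra.counit (R := k) x
      rw [TensorProduct.counit_tmul, Bialgebra.counit_one, smul_eq_mul, mul_one])
    (by
      ext x
      change Algebra.TensorProduct.map _ _ (Coalgebra.comul (R := k) x) = Coalgebra.comul (R := k) ((1 : C) ⊗ₜ[k] x)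
      rw [TensorProduct.comul_tmul, Bialgebra.comul_one]
      induction Coalgebra.comul (R := k) x using TensorProduct.induction_on with
      | zero => simp
      | add a b ha hb => rw [map_add, ha, hb, TensorProduct.tmul_add, map_add]
      | tmul a b =>
        rw [Algebra.TensorProduct.one_def, TensorProduct.AlgebraTensorModule.tensorTensorTensorComm_tmul]
        rfl)

/-- `x ⊗ y ↦ f x * g y` as a bialgebra map -/
def liftB (f : C →ₐc[k] E) (g : D →ₐc[k] E) : C ⊗[k] D →ₐc[k] E :=
  BialgHom.ofAlgHom (Algebra.TensorProduct.lift (f : C →ₐ[k] E) (g : D →ₐ[k] E) fun _ _ => Commute.all _ _)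
    (by
      ext x
      · change Coalgebra.counit (R := k) (f x * g 1) = Coalgebra.counit (R := k) (x ⊗ₜ[k] (1 : D))
        rw [TensorProduct.counit_tmul, Bialgebra.counit_one, one_smul, map_one, mul_one]
        exact CoalgHomClass.counit_comp_apply f x
      · change Coalgebra.counit (R := k) (f 1 * g x) = Coalgebra.counit (R := k) ((1 : C) ⊗ₜ[k] x)
        rw [TensorProduct.counit_tmul, Bialgebra.counit_one, smul_eq_mul, mul_one, map_one, one_mul]
        exact CoalgHomClass.counit_comp_apply g x)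
    (by
      ext x
      · change Algebra.TensorProduct.map _ _ (Coalgebra.comul (R := k) (x ⊗ₜ[k] (1 : D))) =
          Coalgebra.comul (R := k) (f x * g 1)
        rw [map_one, mul_one, ← CoalgHomClass.map_comp_comul_apply f x, TensorProduct.comul_tmul, Bialgebra.comul_one]
        induction Coalgebra.comul (R := k) x using TensorProduct.induction_on with
        | zero => simp
        | add a b ha hb => rw [TensorProduct.add_tmul, map_add, map_add, map_add, ha, hb]
        | tmul a b =>
          rw [Algebra.TensorProduct.one_def, TensorProduct.AlgebraTensorModule.tensorTensorTensorComm_tmul]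
          change (f a * g 1) ⊗ₜ[k] (f b * g 1) = f a ⊗ₜ[k] f b
          rw [map_one, mul_one, mul_one]
      · change Algebra.TensorProduct.map _ _ (Coalgebra.comul (R := k) ((1 : C) ⊗ₜ[k] x)) =
          Coalgebra.comul (R := k) (f 1 * g x)
        rw [map_one, one_mul, ← CoalgHomClass.map_comp_comul_apply g x, TensorProduct.comul_tmul, Bialgebra.comul_one]
        induction Coalgebra.comul (R := k) x using TensorProduct.induction_on with
        | zero => simp
        | add a b ha hb => rw [TensorProduct.tmul_add, map_add, map_add, map_add, ha, hb]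
        | tmul a b =>
          rw [Algebra.TensorProduct.one_def, TensorProduct.AlgebraTensorModule.tensorTensorTensorComm_tmul]
          change (f 1 * g a) ⊗ₜ[k] (f 1 * g b) = g a ⊗ₜ[k] g b
          rw [map_one, one_mul, one_mul])

lemma liftB_tmul (f : C →ₐc[k] E) (g : D →ₐc[k] E) (x : C) (y : D) : liftB f g (x ⊗ₜ y) = f x * g y := rfl
lemma inlB_apply (x : C) : (inlB x : C ⊗[k] D) = x ⊗ₜ 1 := rfl
lemma inrB_apply (x : D) : (inrB x : C ⊗[k] D) = 1 ⊗ₜ x := rfl

end General

section GLn

variable {k : Type u} [CommRing k] (t : ℕ)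

/-- the Prelude's `O(GL_n)` represents `GL_n` -/
theorem univ_gl (n : ℕ) : Univ (gl k (Fin n)) (CoordGrp.GLn n k) (CoordGrp.GLn.genMat n k) where
  mem := IsUnit.of_mul_eq_one _ (by rw [← CoordGrp.GLn.det_eq]; exact CoordGrp.GLn.det_mul_Dinv)
  lift R _ _ g hg := by
    obtain ⟨d, hd⟩ := hg.exists_right_inv
    refine ⟨CoordGrp.GLn.pt n k g d hd, ?_, fun f hf => ?_⟩
    · ext i j
      exact CoordGrp.GLn.pt_X g d hd i j
    · have h1 : ∀ i j, f (CoordGrp.GLn.X i j) = g i j := fun i j => congrFun (congrFun hf i) j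
      refine CoordGrp.GLn.algHom_ext (fun i j => (h1 i j).trans (CoordGrp.GLn.pt_X g d hd i j).symm) ?_
      rw [CoordGrp.GLn.pt_Dinv]
      have h2 : f CoordGrp.GLn.det = g.det := by
        rw [CoordGrp.GLn.det_eq, AlgHom.map_det]
        congr 1
      have h3 : g.det * f CoordGrp.GLn.Dinv = 1 := by
        rw [← h2, ← map_mul, CoordGrp.GLn.det_mul_Dinv, map_one]
      calc f CoordGrp.GLn.Dinv = (d * g.det) * f CoordGrp.GLn.Dinv := by rw [mul_comm d, hd, one_mul]
        _ = d := by rw [mul_assoc, h3, mul_one]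

end GLn

section Groups

variable (k : Type u) [CommRing k] (t : ℕ) (G' : Grp.Gp k)

/-- `H = Stab(e_0) × G'` -/
abbrev HH : Grp.Gp k := K749.prodGp (St k t) G'

/-- `G = GL_{t+1} × (GL_t × G')` -/
abbrev GG : Grp.Gp k := K749.prodGp (K653.GpGL (t + 1) k) (K749.prodGp (K653.GpGL t k) G')

/-- the universal matrix over `O(Stab(e_0))` -/
def mS : Matrix (Fin (t + 1)) (Fin (t + 1)) (St k t).O := K58.mat (0 : Fin (t + 1)) (e0v k t)

lemma univS : Univ (stab k (Fin (t + 1)) 0) (St k t).O (mS k t) := univ_stab (k := k) (0 : Fin (t + 1))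

lemma mS_col (i : Fin (t + 1)) : mS k t i 0 = if i = 0 then 1 else 0 := (univS k t).mem.1 i

lemma mS_det : IsUnit (mS k t).det := (univS k t).mem.2

lemma comul_mS (i j : Fin (t + 1)) :
    Coalgebra.comul (R := k) (mS k t i j) = ∑ l, mS k t i l ⊗ₜ[k] mS k t l j :=
  (univ_stab (k := k) (0 : Fin (t + 1))).com_apply i j

lemma counit_mS (i j : Fin (t + 1)) :
    Coalgebra.counit (R := k) (mS k t i j) = if i = j then (1 : k) else 0 :=
  (univ_stab (k := k) (0 : Fin (t + 1))).counit_apply i j

/-- the lower right block -/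
def bS : Matrix (Fin t) (Fin t) (St k t).O := (mS k t).submatrix Fin.succ Fin.succ

lemma bS_eq : bS k t = blk (finSuccEquiv t).symm (mS k t) := rfl

lemma bS_det : IsUnit (bS k t).det := by
  rw [bS_eq]
  refine blk_unit (k := k) (finSuccEquiv t).symm ?_
  exact (univS k t).mem

lemma comul_bS (i j : Fin t) :
    Coalgebra.comul (R := k) (bS k t i j) = ∑ l, bS k t i l ⊗ₜ[k] bS k t l j := by
  change Coalgebra.comul (R := k) (mS k t i.succ j.succ) = _
  rw [comul_mS, Fin.sum_univ_succ, mS_col, if_neg (Fin.succ_ne_zero i), TensorProduct.zero_tmul, zero_add]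
  rfl

lemma counit_bS (i j : Fin t) : Coalgebra.counit (R := k) (bS k t i j) = if i = j then (1 : k) else 0 := by
  change Coalgebra.counit (R := k) (mS k t i.succ j.succ) = _
  rw [counit_mS]
  simp only [Fin.succ_inj]

/-- `O(GL_{t+1}) → O(Stab)` -/
def φ1 : (K653.GpGL (t + 1) k).O →ₐc[k] (St k t).O :=
  (univ_gl (k := k) (t + 1)).homOf CoordGrp.GLn.comul_X CoordGrp.GLn.counit_X (mS k t) (mS_det k t)
    (comul_mS k t) (counit_mS k t)

/-- `O(GL_t) → O(Stab)` -/
def φ2 : (K653.GpGL t k).O →ₐc[k] (St k t).O :=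
  (univ_gl (k := k) t).homOf CoordGrp.GLn.comul_X CoordGrp.GLn.counit_X (bS k t) (bS_det k t)
    (comul_bS k t) (counit_bS k t)

/-- `O(G) → O(H)` -/
def φφ : (GG k t G').O →ₐc[k] (HH k t G').O :=
  liftB ((inlB : (St k t).O →ₐc[k] (HH k t G').O).comp (φ1 k t))
    (liftB ((inlB : (St k t).O →ₐc[k] (HH k t G').O).comp (φ2 k t)) (inrB : G'.O →ₐc[k] (HH k t G').O))

end Groups

end Groth.Agent.ResProp.EF.K374
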